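import Groth.Agent.FittX.Free
import Groth.Agent.FittX.PdOne
import Groth.Agent.S0389
import Mathlib.RingTheory.Spectrum.Prime.FreeLocus
import Mathlib.Algebra.DirectSum.Decomposition
import Mathlib.RingTheory.Ideal.MinimalPrime.Noetherian

/-!
# Finiteness of the rank profiles of a graded module, and the Hilbert stratum
-/

set_option autoImplicit false

universe u

open TensorProduct Module

namespace Groth.Agent.HilbStratum

section Proj

variable {B : Type u} [CommRing B] {N : Type u} [AddCommGroup N] [Module B N]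

/-- The Fitting ideals of a projective module of constant rank. -/
theorem ideal_eq_of_projective [Module.Finite B N] [Module.Projective B N] (r : ℕ)
    (hr : ∀ p : PrimeSpectrum B, Module.rankAtStalk N p = r) (k : ℕ) :
    Fitt.ideal B N k = if k < r then ⊥ else ⊤ := by
  haveI : Module.FinitePresentation B N := Module.finitePresentation_of_projective B N
  split_ifs with hk
  · refine FittX.eq_bot_of_locally _ fun p _ => ?_
    haveI : Module.Free (Localization.AtPrime p) (LocalizedModule p.primeCompl N) :=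
      Module.free_of_flat_of_isLocalRing
    obtain ⟨f, hf, hfree, -⟩ := Module.FinitePresentation.exists_free_localizedModule_powers
      p.primeCompl (LocalizedModule.mkLinearMap p.primeCompl N) (Localization.AtPrime p)
    refine ⟨f, hf, ?_⟩
    haveI := hfree
    haveI : Module.Finite (Localization.Away f) (LocalizedModule (Submonoid.powers f) N) :=
      Module.Finite.of_isLocalizedModule (Submonoid.powers f)
        (LocalizedModule.mkLinearMap (Submonoid.powers f) N)
    have hdis : Disjoint (Submonoid.powers f : Set B) p := by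
      rwa [Ideal.disjoint_powers_iff_notMem _ (Ideal.IsPrime.isRadical ‹_›)]
    let q : PrimeSpectrum (Localization.Away f) :=
      ⟨_, IsLocalization.isPrime_of_isPrime_disjoint (Submonoid.powers f) (Localization.Away f) p ‹_› hdis⟩
    haveI : Nontrivial (Localization.Away f) :=
      q.isPrime.ne_top |> fun h => (not_subsingleton_iff_nontrivial.1 fun _ => h (Subsingleton.elim _ _))
    have hrk : Module.finrank (Localization.Away f) (LocalizedModule (Submonoid.powers f) N) = r := by
      have h := congr_fun (Module.rankAtStalk_eq_finrank_of_free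
        (R := Localization.Away f) (M := LocalizedModule (Submonoid.powers f) N)) q
      rw [Module.rankAtStalk_isBaseChange
        (LocalizedModule.isBaseChange (Submonoid.powers f) N), hr] at h
      exact h.symm
    rw [← FittX.ideal_map_away]
    exact FittX.ideal_eq_bot_of_free _ k r
      ((Module.finBasis (Localization.Away f) (LocalizedModule (Submonoid.powers f) N)).reindex
        (finCongr hrk)) hk
  · by_contra hne
    obtain ⟨m, hm, hle⟩ := Ideal.exists_le_maximal _ hne
    refine (FittX.not_le_iff_fiber N k m).2 ?_ hle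
    rw [← Module.rankAtStalk_eq (M := N) ⟨m, hm.isPrime⟩, hr]
    omega

/-- Projective of constant rank in terms of Fitting ideals. -/
theorem projective_rank_iff [Module.Finite B N] (r : ℕ) :
    (Module.Projective B N ∧ ∀ p : PrimeSpectrum B, Module.rankAtStalk N p = r) ↔
      (∀ k, k < r → Fitt.ideal B N k = ⊥) ∧ (∀ k, r ≤ k → Fitt.ideal B N k = ⊤) := by
  constructor
  · rintro ⟨hp, hr⟩
    haveI := hp
    exact ⟨fun k hk => by rw [ideal_eq_of_projective r hr, if_pos hk],
      fun k hk => by rw [ideal_eq_of_projective r hr, if_neg (by omega)]⟩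
  · intro h
    haveI hp : Module.Projective B N := FittX.projective_of_free_away fun p _ =>
      let ⟨f, hf, hfree, _⟩ := (FittX.locallyFree_iff r).2 h p; ⟨f, hf, hfree⟩
    refine ⟨hp, fun p => ?_⟩
    rw [Module.rankAtStalk_eq]
    refine le_antisymm ((FittX.not_le_iff_fiber N r p.asIdeal).1 ?_) ?_
    · rw [h.2 r le_rfl, top_le_iff]
      exact p.isPrime.ne_top
    · by_contra hlt
      have e : p.asIdeal.Fiber N = (p.asIdeal.ResidueField ⊗[B] N) := rfl
      change ¬ r ≤ Module.finrank p.asIdeal.ResidueField (p.asIdeal.ResidueField ⊗[B] N) at hlt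
      refine (FittX.not_le_iff_fiber N (r - 1) p.asIdeal).2 ?_ ?_
      · omega
      · rw [h.1 (r - 1) (by omega)]
        exact bot_le

end Proj

section Profiles

variable {A : Type u} [CommRing A] [IsNoetherianRing A]

/-- Sets of Fitting profiles: finiteness by Noetherian induction. -/
theorem finite_profiles {T : Type*} (Q : PrimeSpectrum A → T)
    (h : ∀ p : PrimeSpectrum A, ∃ f : A, f ∉ p.asIdeal ∧
      ∀ q : PrimeSpectrum A, p.asIdeal ≤ q.asIdeal → f ∉ q.asIdeal → Q q = Q p) :
    (Set.range Q).Finite := by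
  suffices H : ∀ I : Ideal A, (Q '' {q | I ≤ q.asIdeal}).Finite by
    refine (H ⊥).subset ?_
    rintro _ ⟨q, rfl⟩
    exact ⟨q, show ⊥ ≤ q.asIdeal from bot_le, rfl⟩
  intro I
  induction I using WellFoundedGT.induction with
  | _ I ih =>
    by_cases hI : I.IsPrime
    · obtain ⟨f, hf, hfq⟩ := h ⟨I, hI⟩
      refine ((Set.finite_singleton (Q ⟨I, hI⟩)).union
        (ih (I ⊔ Ideal.span {f}) (left_lt_sup.2 fun hle => hf (hle (Ideal.mem_span_singleton_self f))))).subset ?_
      rintro _ ⟨q, hq, rfl⟩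
      by_cases hfm : f ∈ q.asIdeal
      · exact Or.inr ⟨q, sup_le hq ((Ideal.span_singleton_le_iff_mem _).2 hfm), rfl⟩
      · exact Or.inl (hfq q hq hfm)
    · refine Set.Finite.subset (Set.Finite.biUnion (Ideal.finite_minimalPrimes_of_isNoetherianRing A I)
        (t := fun P => Q '' {q | P ≤ q.asIdeal}) fun P hP => ih P ?_) ?_
      · exact lt_of_le_of_ne hP.1.2 fun e => hI (e ▸ hP.1.1)
      · rintro _ ⟨q, hq, rfl⟩
        obtain ⟨P, hP, hPq⟩ := Ideal.exists_minimalPrimes_le (J := q.asIdeal) hq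
        exact Set.mem_iUnion₂.2 ⟨P, hP, q, hPq, rfl⟩

end Profiles

section Graded

variable {A : Type u} [CommRing A] {R : Type u} [CommRing R] [Algebra A R]
  {M : Type u} [AddCommGroup M] [Module A M] [Module R M] [IsScalarTower A R M]
  (ℳ : ℤ → Submodule A M) [DirectSum.Decomposition ℳ]

/-- The component map of a decomposition. -/
noncomputable def proj (v : ℤ) : M →ₗ[A] ↥(ℳ v) :=
  DirectSum.component A ℤ (fun i => ↥(ℳ i)) v ∘ₗ (DirectSum.decomposeLinearEquiv ℳ).toLinearMap

theorem proj_comp_subtype (v : ℤ) : proj ℳ v ∘ₗ (ℳ v).subtype = LinearMap.id := by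
  refine LinearMap.ext fun x => ?_
  show (DirectSum.decompose ℳ (x : M)) v = x
  rw [DirectSum.decompose_coe, DirectSum.of_eq_same]

/-- Near every prime the Fitting profile of the graded pieces is constant along the closure. -/
theorem exists_constant [Algebra.FiniteType A R] (hM : Module.Finite R M) (hfg : ∀ v : ℤ, Module.Finite A ↥(ℳ v))
    (h : ℤ → ℕ) (p : PrimeSpectrum A) :
    ∃ f : A, f ∉ p.asIdeal ∧ ∀ q : PrimeSpectrum A, p.asIdeal ≤ q.asIdeal → f ∉ q.asIdeal →
      (fun v => Fitt.ideal A ↥(ℳ v) (h v) ≤ q.asIdeal) = fun v => Fitt.ideal A ↥(ℳ v) (h v) ≤ p.asIdeal := by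
  haveI := hM
  let P := p.asIdeal
  let J : Ideal R := P.map (algebraMap A R)
  let N : Submodule R M := J • ⊤
  let S' := R ⧸ J
  let M' := M ⧸ N
  let φ : A ⧸ P →+* S' := Ideal.quotientMap J (algebraMap A R) Ideal.le_comap_map
  letI : Algebra (A ⧸ P) S' := φ.toAlgebra
  haveI : IsScalarTower A (A ⧸ P) S' := IsScalarTower.of_algebraMap_eq fun a => rfl
  letI : Module (A ⧸ P) M' := Module.compHom M' φ
  haveI : IsScalarTower (A ⧸ P) S' M' := IsScalarTower.of_algebraMap_smul fun _ _ => rfl
  haveI : IsScalarTower A (A ⧸ P) M' := IsScalarTower.of_algebraMap_smul fun a m => by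
    obtain ⟨m, rfl⟩ := Submodule.Quotient.mk_surjective N m
    show Submodule.Quotient.mk (algebraMap A R a • m) = Submodule.Quotient.mk (a • m)
    rw [algebraMap_smul]
  haveI : Algebra.FiniteType (A ⧸ P) S' :=
    haveI : Algebra.FiniteType A S' := Algebra.FiniteType.trans (S := R) inferInstance inferInstance
    Algebra.FiniteType.of_restrictScalars_finiteType A (A ⧸ P) S'
  haveI : Module.Finite S' M' := Module.Finite.of_restrictScalars_finite R S' M'
  obtain ⟨f₀, hf₀, hfree, -⟩ := S0389.result (R := A ⧸ P) (S := S') (M := M')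
  obtain ⟨f, rfl⟩ := Ideal.Quotient.mk_surjective f₀
  have hfP : f ∉ P := fun hf => hf₀ (Ideal.Quotient.eq_zero_iff_mem.2 hf)
  let C := Localization.Away (Ideal.Quotient.mk P f)
  have hN : N.restrictScalars A = P • (⊤ : Submodule A M) := by
    show (P.map (algebraMap A R) • (⊤ : Submodule R M)).restrictScalars A = _
    exact (Ideal.smul_restrictScalars P ⊤).trans (by rw [Submodule.restrictScalars_top])
  let e₀ : (A ⧸ P) ⊗[A] M ≃ₗ[A] M' :=
    TensorProduct.quotTensorEquivQuotSMul M P ≪≫ₗ Submodule.quotEquivOfEq _ _ hN.symm ≪≫ₗ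
      Submodule.Quotient.restrictScalarsEquiv A N
  let e₁ : (A ⧸ P) ⊗[A] M ≃ₗ[A ⧸ P] M' :=
    e₀.extendScalarsOfSurjective (S := A ⧸ P) Ideal.Quotient.mk_surjective
  haveI : Module.Free C (C ⊗[A] M) :=
    Module.Free.of_equiv ((LinearEquiv.baseChange (A ⧸ P) C _ _ e₁).symm ≪≫ₗ
      AlgebraTensorModule.cancelBaseChange A (A ⧸ P) C C M)
  refine ⟨f, hfP, fun q hpq hfq => funext fun v => propext ?_⟩
  haveI := hfg v
  haveI : Module.Projective C (C ⊗[A] ↥(ℳ v)) :=
    Module.Projective.of_split ((ℳ v).subtype.baseChange C) ((proj ℳ v).baseChange C) (by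
      rw [← LinearMap.baseChange_comp, proj_comp_subtype, LinearMap.baseChange_id])
  haveI : IsDomain C := IsLocalization.isDomain_localization (powers_le_nonZeroDivisors_of_noZeroDivisors hf₀)
  let r := Module.rankAtStalk (C ⊗[A] ↥(ℳ v)) (⊥ : PrimeSpectrum C)
  have hr : ∀ x : PrimeSpectrum C, Module.rankAtStalk (C ⊗[A] ↥(ℳ v)) x = r := fun x =>
    (Module.rankAtStalk_eq_of_le_of_finite_of_flat (C ⊗[A] ↥(ℳ v)) (bot_le : ⊥ ≤ x)).symm
  have hmap := (FittX.ideal_baseChange (TensorProduct.isBaseChange A ↥(ℳ v) C) (h v)).symm.trans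
    (ideal_eq_of_projective r hr (h v))
  have key : ∀ x : PrimeSpectrum A, P ≤ x.asIdeal → f ∉ x.asIdeal →
      (Fitt.ideal A ↥(ℳ v) (h v) ≤ x.asIdeal ↔ h v < r) := by
    intro x hPx hfx
    let x₀ : Ideal (A ⧸ P) := x.asIdeal.map (Ideal.Quotient.mk P)
    haveI : x₀.IsPrime := Ideal.map_isPrime_of_surjective Ideal.Quotient.mk_surjective (by rwa [Ideal.mk_ker])
    have hx₀ : x₀.comap (Ideal.Quotient.mk P) = x.asIdeal := by
      rw [Ideal.comap_map_of_surjective _ Ideal.Quotient.mk_surjective, ← RingHom.ker_eq_comap_bot,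
        Ideal.mk_ker, sup_eq_left.2 hPx]
    have hdis : Disjoint (Submonoid.powers (Ideal.Quotient.mk P f) : Set (A ⧸ P)) x₀ := by
      rw [Ideal.disjoint_powers_iff_notMem _ (Ideal.IsPrime.isRadical ‹_›)]
      exact fun hm => hfx (hx₀ ▸ (Ideal.mem_comap.2 hm))
    let Q := x₀.map (algebraMap (A ⧸ P) C)
    have hQ : Q.comap (algebraMap A C) = x.asIdeal := by
      rw [IsScalarTower.algebraMap_eq A (A ⧸ P) C, ← Ideal.comap_comap]
      exact (congrArg (Ideal.comap (algebraMap A (A ⧸ P)))
        (IsLocalization.under_map_of_isPrime_disjoint (Submonoid.powers (Ideal.Quotient.mk P f)) C ‹_› hdis)).trans hx₀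
    have hQp : Q.IsPrime :=
      IsLocalization.isPrime_of_isPrime_disjoint (Submonoid.powers (Ideal.Quotient.mk P f)) C x₀ ‹_› hdis
    rw [← hQ, ← Ideal.map_le_iff_le_comap, hmap]
    split_ifs with hlt
    · simp [hlt]
    · simp only [top_le_iff, hlt, iff_false]
      exact hQp.ne_top
  exact (key q hpq hfq).trans (key p le_rfl hfP).symm

/-- The locally closed stratum of a Hilbert function. -/
theorem exists_ideals [IsNoetherianRing A] [Algebra.FiniteType A R] (hM : Module.Finite R M)
    (hfg : ∀ v : ℤ, Module.Finite A ↥(ℳ v)) (h : ℤ → ℕ) :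
    ∃ a b : Ideal A, ∀ (B : Type u) [CommRing B] [Algebra A B],
      ((∀ v : ℤ, Module.Finite B (B ⊗[A] ↥(ℳ v)) ∧ Module.Projective B (B ⊗[A] ↥(ℳ v)) ∧
          ∀ p : PrimeSpectrum B, Module.rankAtStalk (B ⊗[A] ↥(ℳ v)) p = h v) ↔
        (Ideal.map (algebraMap A B) a = ⊥ ∧ Ideal.map (algebraMap A B) b = ⊤)) := by
  classical
  let F : ℤ → ℕ → Ideal A := fun v k => Fitt.ideal A ↥(ℳ v) k
  let Q : PrimeSpectrum A → (ℤ → Prop) := fun p v => F v (h v) ≤ p.asIdeal
  have hfin := finite_profiles Q fun p => exists_constant ℳ hM hfg h p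
  -- one bad degree for each profile
  let pick : (ℤ → Prop) → ℤ := fun φ => if hφ : ∃ v, φ v then hφ.choose else 0
  let V₀ := hfin.toFinset.image pick
  refine ⟨⨆ (v : ℤ) (k : ℕ) (_ : k < h v), F v k, V₀.prod fun v => F v (h v), fun B _ _ => ?_⟩
  have hbc : ∀ (v : ℤ) (k : ℕ),
      Fitt.ideal B (B ⊗[A] ↥(ℳ v)) k = (F v k).map (algebraMap A B) := fun v k => by
    haveI := hfg v
    exact FittX.ideal_baseChange (TensorProduct.isBaseChange A ↥(ℳ v) B) k
  have hfB : ∀ v, Module.Finite B (B ⊗[A] ↥(ℳ v)) := fun v => by haveI := hfg v; infer_instance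
  constructor
  · intro H
    refine ⟨?_, ?_⟩
    · rw [Ideal.map_iSup, iSup_eq_bot]
      intro v
      rw [Ideal.map_iSup, iSup_eq_bot]
      intro k
      rw [Ideal.map_iSup, iSup_eq_bot]
      intro hk
      rw [← hbc]
      haveI := hfB v
      exact ((projective_rank_iff (h v)).1 (H v).2).1 k hk
    · rw [← Ideal.mapHom_apply, map_prod, ← Ideal.one_eq_top]
      refine Finset.prod_eq_one fun v _ => ?_
      rw [Ideal.mapHom_apply, ← hbc, Ideal.one_eq_top]
      haveI := hfB v
      exact ((projective_rank_iff (h v)).1 (H v).2).2 _ le_rfl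
  · rintro ⟨ha, hb⟩ v
    haveI := hfB v
    haveI := hfg v
    refine ⟨hfB v, (projective_rank_iff (h v)).2 ⟨fun k hk => ?_, fun k hk => ?_⟩⟩
    · rw [hbc, eq_bot_iff, ← ha]
      exact Ideal.map_mono ((le_iSup₂ (f := fun k (_ : k < h v) => F v k) k hk).trans
        (le_iSup (fun v => ⨆ (k : ℕ) (_ : k < h v), F v k) v))
    · suffices htop : (F v (h v)).map (algebraMap A B) = ⊤ by
        rw [hbc, eq_top_iff, ← htop]
        exact Ideal.map_mono (FittX.ideal_mono hk)
      by_contra hne
      obtain ⟨m, hm, hle⟩ := Ideal.exists_le_maximal _ hne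
      let p : PrimeSpectrum A := ⟨m.comap (algebraMap A B), hm.isPrime.comap _⟩
      have hex : ∃ w, Q p w := ⟨v, Ideal.map_le_iff_le_comap.1 hle⟩
      have hw : pick (Q p) ∈ V₀ := Finset.mem_image_of_mem _ (hfin.mem_toFinset.2 ⟨p, rfl⟩)
      have hQ : Q p (pick (Q p)) := by
        simp only [pick, dif_pos hex]
        exact hex.choose_spec
      apply hm.ne_top
      rw [eq_top_iff, ← hb, Ideal.map_le_iff_le_comap]
      exact le_trans (Ideal.le_of_dvd (Finset.dvd_prod_of_mem _ hw)) hQ

end Graded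

end Groth.Agent.HilbStratum
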